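import Groth.Agent.AVVanish.PhiSurj
import Groth.Agent.S14140
import Groth.Agent.S4381
import Groth.Agent.AmpleX.BaseChange
import Groth.Agent.AmpleX.RelAffine
import Groth.Agent.Lib.AVProj
import Groth.Agent.DSPtsLib.Basic
import Groth.Agent.AmpleVan.Pull
import Mathlib.FieldTheory.IsAlgClosed.AlgebraicClosure

/-!
# Ampleness only depends on the class modulo classes algebraically equivalent to zero
-/

set_option autoImplicit false
set_option linter.style.haveILetI false
set_option linter.unusedSectionVars false
set_option backward.isDefEq.respectTransparency false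
set_option backward.isDefEq.respectTransparency.types false
set_option maxHeartbeats 1000000
set_option synthInstance.maxHeartbeats 400000

universe u

open CategoryTheory CategoryTheory.Limits AlgebraicGeometry MonoidalCategory CartesianMonoidalCategory MonObj
open Groth.Agent.H23 Groth.Agent.H23.PicMul

attribute [-instance] CategoryTheory.catToReflQuiver

namespace Groth.Agent.AmplePic0

open Groth.Agent

variable {k : Type u} [Field k] {A : Over (Spec (CommRingCat.of k))} [GrpObj A]
  {S' : Scheme.{u}} (g : S' ⟶ Spec (CommRingCat.of k))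

theorem theta_one (Y : Over S') : DSPtsLib.theta g (1 : Y ⟶ Red.bc g A) = 1 := by
  have h := DSPtsLib.theta_mul g (1 : Y ⟶ Red.bc g A) 1
  rwa [_root_.one_mul, eq_comm, mul_eq_left] at h

/-- A translation of the base change, composed with the projection, is the group law. -/
theorem tr_fst (u : 𝟙_ (Over S') ⟶ Red.bc g A) :
    (𝟙 (Red.bc g A) * (toUnit _ ≫ u)).left ≫ pullback.fst A.hom g =
      (lift (DSPtsLib.theta g (𝟙 (Red.bc g A))) (DSPtsLib.theta g (toUnit (Red.bc g A) ≫ u)) ≫ μ[A]).left := by
  rw [← DSPtsLib.theta_left, DSPtsLib.theta_mul]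
  rfl

/-- A class with additive behaviour is invariant under the translations of a base change. -/
theorem invariant_bc {c : PicF.Cl A.left} (u : 𝟙_ (Over S') ⟶ Red.bc g A)
    (hc : PicF.pullCl μ[A].left c = PicF.pullCl (fst A A).left c * PicF.pullCl (snd A A).left c)
    (hu : PicF.pullCl (u.left ≫ pullback.fst A.hom g) c = 1) :
    PicF.pullCl (𝟙 (Red.bc g A) * (toUnit _ ≫ u)).left (PicF.pullCl (pullback.fst A.hom g) c) =
      PicF.pullCl (pullback.fst A.hom g) c := by
  rw [PicClLib.pullCl_comp, tr_fst, Over.comp_left, ← PicClLib.pullCl_comp, hc, PicMul.pullCl_mul,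
    PicClLib.pullCl_comp, PicClLib.pullCl_comp, ← Over.comp_left, ← Over.comp_left, lift_fst, lift_snd,
    DSPtsLib.theta_left, DSPtsLib.theta_left, Over.id_left, Over.comp_left, Category.assoc]
  rw [show PicF.pullCl ((toUnit (Red.bc g A)).left ≫ u.left ≫ pullback.fst A.hom g) c = 1 by
    rw [← PicClLib.pullCl_comp, hu, PicMul.pullCl_one]]
  rw [_root_.mul_one]
  exact congrArg (fun f => PicF.pullCl f c) (Category.id_comp _)

theorem isAmple_tensor [IsProper A.hom] [Smooth A.hom] [GeometricallyConnected A.hom]
    (L N : A.left.Modules) (hL : CohB1.IsAmple L) (hN : PicF.IsInvertible N)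
    (hN0 : Nonempty ((Scheme.Modules.pullback μ[A].left).obj N ≅
      CohB1.tensorMod ((Scheme.Modules.pullback (fst A A).left).obj N) ((Scheme.Modules.pullback (snd A A).left).obj N))) :
    CohB1.IsAmple (CohB1.tensorMod L N) := by
  let K' := AlgebraicClosure k
  let t := Spec.map (CommRingCat.ofHom (algebraMap k K'))
  let B : Over (Spec (CommRingCat.of K')) := Red.bc t A
  let p : B.left ⟶ A.left := pullback.fst A.hom t
  haveI : IsProper B.hom := inferInstanceAs (IsProper (pullback.snd A.hom t))
  haveI : Smooth B.hom := inferInstanceAs (Smooth (pullback.snd A.hom t))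
  haveI : GeometricallyConnected B.hom := inferInstanceAs (GeometricallyConnected (pullback.snd A.hom t))
  have hLi : PicF.IsInvertible L := hL.1
  have hc : PicF.pullCl μ[A].left (PicF.cl N) = PicF.pullCl (fst A A).left (PicF.cl N) * PicF.pullCl (snd A A).left (PicF.cl N) :=
    PicMul.cl_eq_iff.2 hN0
  refine AVProj.isAmple_of_baseChange A.hom K' _ (InvX.isInvertible_tensorMod hLi hN) ?_
  haveI : GeometricallyIntegral B.hom := AVDual.geometricallyIntegral_of_smooth B
  haveI : CompactSpace B.left := QuasiCompact.compactSpace_of_compactSpace B.hom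
  have hpL : CohB1.IsAmple ((Scheme.Modules.pullback p).obj L) :=
    (S4381.result (pullback.snd A.hom t) _).1
      (AmpleX.isRelAmple_baseChange A.hom t ((S4381.result A.hom L).2 hL))
  obtain ⟨L', hL'i, hL'⟩ := H23.PicInv.exists_inverse (PicClLib.isInvertible_pullback p hLi)
  have hinv : ∀ x : 𝟙_ (Over (Spec (CommRingCat.of K'))) ⟶ B,
      Nonempty ((Scheme.Modules.pullback (𝟙 B * (toUnit B ≫ x)).left).obj ((Scheme.Modules.pullback p).obj N) ≅
        (Scheme.Modules.pullback p).obj N) := fun x => PicMul.cl_eq_iff.1 (by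
    refine invariant_bc t x hc ?_
    have h := CubeAb.F_const (A := B) (T := 𝟙_ (Over (Spec (CommRingCat.of K'))))
      (c := PicF.cl ((Scheme.Modules.pullback p).obj N)) ⟨_, rfl, PicClLib.isInvertible_pullback p hN⟩ x
    rw [toUnit_unique (toUnit (𝟙_ (Over (Spec (CommRingCat.of K'))))) (𝟙 _), Category.id_comp] at h
    exact (PicClLib.pullCl_comp _ _ _).symm.trans h)
  obtain ⟨x, ⟨e⟩⟩ := S14140.result K' B ((Scheme.Modules.pullback p).obj L) L' hpL hL'
    ((Scheme.Modules.pullback p).obj N) (PicClLib.isInvertible_pullback p hN) hinv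
  let T := (𝟙 B * (toUnit B ≫ x)).left
  haveI : IsIso T := by
    exact AVAmple.isIso_tr x
  have hT : CohB1.IsAmple ((Scheme.Modules.pullback T).obj ((Scheme.Modules.pullback p).obj L)) :=
    AmpleVan.isAmple_pullback_of_isEmbedding T (T.isOpenEmbedding.isEmbedding) hpL
  obtain ⟨f⟩ : Nonempty ((Scheme.Modules.pullback T).obj ((Scheme.Modules.pullback p).obj L) ≅
      (Scheme.Modules.pullback p).obj (CohB1.tensorMod L N)) := PicMul.cl_eq_iff.1 (by
    show _ = PicF.pullCl p (PicF.cl (CohB1.tensorMod L N))
    rw [PicMul.cl_tensor, PicMul.pullCl_mul,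
      show PicF.pullCl p (PicF.cl N) = PicF.cl ((Scheme.Modules.pullback p).obj N) from rfl,
      PicMul.cl_eq_iff.2 ⟨e⟩, PicMul.cl_tensor,
      mul_left_comm, show PicF.pullCl p (PicF.cl L) * PicF.cl L' = 1 from PicMul.cl_eq_iff.2 hL', _root_.mul_one])
  exact AmpleX.isAmple_of_iso f hT

end Groth.Agent.AmplePic0
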